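import Groth.Agent.Lib.VarDim.Basic
import Mathlib.AlgebraicGeometry.Morphisms.QuasiCompact

/-!
# Fibres, images and components
-/

set_option autoImplicit false
set_option linter.style.haveILetI false

universe u

namespace Groth.Agent.Lib.VarDim.Fibre

open AlgebraicGeometry CategoryTheory TopologicalSpace Groth.Agent.Lib.Cyc
open Groth.Agent.Lib.VarDim.Basic

variable {K : Type u} [Field K] {X Y : Scheme.{u}} (qX : X ⟶ Spec (CommRingCat.of K))
  (qY : Y ⟶ Spec (CommRingCat.of K)) (φ : X ⟶ Y)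

theorem pdim_eq_add [LocallyOfFiniteType qX] (h : φ ≫ qY = qX) (x : X) :
    pdim qX x = pdim qY (φ x) + tdAt φ x := by
  subst h
  have he := trdegAt_eq_pdim (φ ≫ qY) x
  have hlt : Residue.trdegAt qY (φ x) + Residue.trdegAt φ x < Cardinal.aleph0 := by
    rw [← Residue.trdegAt_comp, he]; exact Cardinal.natCast_lt_aleph0
  rw [pdim, tdAt, Residue.trdegAt_comp,
    Cardinal.toNat_add (lt_of_le_of_lt le_self_add hlt) (lt_of_le_of_lt le_add_self hlt)]
  rfl

theorem pdim_apply_le [LocallyOfFiniteType qX] (h : φ ≫ qY = qX) (x : X) :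
    pdim qY (φ x) ≤ pdim qX x := by
  rw [pdim_eq_add qX qY φ h x]; omega

theorem tdAt_of_isClosed [LocallyOfFiniteType qX] [LocallyOfFiniteType qY] (h : φ ≫ qY = qX)
    (x : X) (hy : IsClosed ({φ x} : Set Y)) : tdAt φ x = pdim qX x := by
  rw [pdim_eq_add qX qY φ h x, (pdim_eq_zero_iff qY _).2 hy, zero_add]

set_option backward.isDefEq.respectTransparency.types false in
/-- The fibre over any point. -/
theorem topologicalKrullDim_fibre_le_iff [LocallyOfFiniteType φ] (y : Y) (d : WithBot ℕ∞) :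
    topologicalKrullDim ↥(φ.base ⁻¹' {y}) ≤ d ↔ ∀ x : X, φ x = y → (tdAt φ x : WithBot ℕ∞) ≤ d := by
  have : LocallyOfFiniteType (X := φ.fiber y) (Y := Spec (CommRingCat.of (Y.residueField y)))
      (φ.fiberToSpecResidueField y) :=
    inferInstanceAs (LocallyOfFiniteType (Limits.pullback.snd φ (Y.fromSpecResidueField y)))
  rw [← (φ.fiberHomeo y).isHomeomorph.topologicalKrullDim_eq _,
    topologicalKrullDim_scheme_le_iff (K := Y.residueField y) (φ.fiberToSpecResidueField y)]
  have key : ∀ z : φ.fiber y,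
      pdim (K := Y.residueField y) (φ.fiberToSpecResidueField y) z = tdAt φ (φ.fiberι y z) :=
    fun z => congrArg Cardinal.toNat (FieldDim.trdegAt_fiber φ y z)
  constructor
  · intro hz x hx
    obtain ⟨z, rfl⟩ := FieldDim.exists_fiberι_eq φ x y hx
    rw [← key]
    exact hz z
  · intro hx z
    rw [key]
    exact hx _ (FieldDim.apply_fiberι φ y z)

theorem tdAt_le_topologicalKrullDim_fibre [LocallyOfFiniteType φ] (x : X) :
    (tdAt φ x : WithBot ℕ∞) ≤ topologicalKrullDim ↥(φ.base ⁻¹' {φ x}) :=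
  (topologicalKrullDim_fibre_le_iff φ (φ x) _).1 le_rfl x rfl

theorem exists_tdAt_ge [LocallyOfFiniteType φ] (y : Y) (r : ℕ)
    (h : (r : WithBot ℕ∞) ≤ topologicalKrullDim ↥(φ.base ⁻¹' {y})) :
    ∃ x : X, φ x = y ∧ r ≤ tdAt φ x := by
  by_contra! hc
  rcases Nat.eq_zero_or_pos r with rfl | hr
  · have hbot : topologicalKrullDim ↥(φ.base ⁻¹' {y}) ≤ ⊥ :=
      (topologicalKrullDim_fibre_le_iff φ y _).2 fun x hx => absurd (hc x hx) (by omega)
    exact absurd (h.trans hbot) (by simp)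
  · have hle : topologicalKrullDim ↥(φ.base ⁻¹' {y}) ≤ ((r - 1 : ℕ) : WithBot ℕ∞) :=
      (topologicalKrullDim_fibre_le_iff φ y _).2 fun x hx => by
        have := hc x hx
        exact_mod_cast (by omega : tdAt φ x ≤ r - 1)
    have := h.trans hle
    norm_cast at this
    omega

/-- A point of the closure of the range of a quasi-compact morphism is a specialization of a point
in the range. -/
theorem exists_specializes_of_mem_closure_range [QuasiCompact φ] {y : Y}
    (hy : y ∈ closure (Set.range φ)) : ∃ x : X, φ x ⤳ y := by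
  obtain ⟨U, hU, hyU, -⟩ := exists_isAffineOpen_mem_and_subset (x := y) (U := ⊤) trivial
  haveI : IsAffine ↑U := hU
  haveI : CompactSpace ↥(φ ⁻¹ᵁ U) := QuasiCompact.compactSpace_of_compactSpace (φ ∣_ U)
  obtain ⟨R, g, hg⟩ := (AlgebraicGeometry.compactSpace_iff_exists (X := ↑(φ ⁻¹ᵁ U))).mp ‹_›
  obtain ⟨ψ, hψ⟩ : ∃ ψ, Spec.map ψ = g ≫ (φ ∣_ U) ≫ hU.isoSpec.hom := Spec.map_surjective _
  set p := hU.primeIdealOf ⟨y, hyU⟩ with hp
  have hpy : hU.fromSpec p = y := hU.fromSpec_primeIdealOf ⟨y, hyU⟩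
  have hcomp : ∀ z, hU.fromSpec (Spec.map ψ z) = φ ((g ≫ (φ ⁻¹ᵁ U).ι) z) := fun z => by
    rw [← Scheme.Hom.comp_apply, ← Scheme.Hom.comp_apply, hψ]
    congr 2
    simp only [Category.assoc, ← hU.isoSpec_inv_ι, Iso.hom_inv_id_assoc, morphismRestrict_ι]
  have hcl : p ∈ closure (Set.range (PrimeSpectrum.comap ψ.hom)) := by
    rw [mem_closure_iff]
    intro V hV hpV
    obtain ⟨_, ⟨v, hv, rfl⟩, x, hx⟩ := mem_closure_iff.1 hy (hU.fromSpec '' V)
      (hU.fromSpec.isOpenEmbedding.isOpenMap V hV) ⟨p, hpV, hpy⟩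
    have hxU : φ x ∈ U := by
      have : hU.fromSpec v ∈ Set.range hU.fromSpec := ⟨v, rfl⟩
      rw [hU.range_fromSpec] at this
      rw [hx]; exact this
    obtain ⟨z, hz⟩ := hg ⟨x, hxU⟩
    refine ⟨v, hv, z, hU.fromSpec.isOpenEmbedding.injective ?_⟩
    refine (hcomp z).trans ?_
    rw [Scheme.Hom.comp_apply, hz]
    exact hx
  rw [PrimeSpectrum.closure_range_comap, PrimeSpectrum.mem_zeroLocus] at hcl
  obtain ⟨q, -, hq, hqp⟩ := p.asIdeal.exists_ideal_comap_le_prime (f := ψ.hom) ⊥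
    (by rw [← RingHom.ker_eq_comap_bot]; exact hcl)
  let w : ↥(Spec R) := ⟨q, hq⟩
  refine ⟨(g ≫ (φ ⁻¹ᵁ U).ι) w, ?_⟩
  have hsp : (Spec.map ψ) w ⤳ p :=
    (PrimeSpectrum.le_iff_specializes (Spec.map ψ w) p).1 hqp
  have := hsp.map hU.fromSpec.continuous
  rw [hpy] at this
  exact hcomp w ▸ this

theorem exists_eq_of_maximal [QuasiCompact φ] {y : Y} (hy : y ∈ closure (Set.range φ))
    (hmax : ∀ y', y' ⤳ y → y' = y) : ∃ x, φ x = y := by
  obtain ⟨x, hx⟩ := exists_specializes_of_mem_closure_range φ hy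
  exact ⟨x, hmax _ hx⟩

/-- Every point has a generization which is maximal in a given closed set. -/
theorem exists_maximal {T : Set X} (hT : IsClosed T) {x : X} (hx : x ∈ T) :
    ∃ ξ ∈ T, ξ ⤳ x ∧ (∀ z ∈ T, z ⤳ ξ → z = ξ) ∧ IsIrreducible (closure ({ξ} : Set X)) := by
  haveI : QuasiSober T := hT.isClosedEmbedding_subtypeVal.quasiSober
  obtain ⟨C, hC, hxC⟩ : ∃ C ∈ irreducibleComponents ↥T, (⟨x, hx⟩ : T) ∈ C :=
    ⟨irreducibleComponent _, irreducibleComponent_mem_irreducibleComponents _,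
      mem_irreducibleComponent⟩
  have hCc := isClosed_of_mem_irreducibleComponents C hC
  have hg := hC.1.isGenericPoint_genericPoint hCc
  refine ⟨(hC.1.genericPoint).1, (hC.1.genericPoint).2,
    (subtype_specializes_iff _ _).1 (hg.specializes hxC), fun z hz hzξ => ?_,
    isIrreducible_singleton.closure⟩
  have hz' : (⟨z, hz⟩ : T) ⤳ hC.1.genericPoint := (subtype_specializes_iff _ _).2 hzξ
  have hzC : (⟨z, hz⟩ : T) ∈ C := hC.2 isIrreducible_singleton.closure
    (fun a ha => specializes_iff_mem_closure.1 (hz'.trans (hg.specializes ha)))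
    (subset_closure rfl)
  exact congrArg Subtype.val (hz'.antisymm (hg.specializes hzC)).eq

/-- Irreducible components of a closed subset. -/
theorem exists_genericPoint_component {T : Set X} (hT : IsClosed T) {C : Set ↥T}
    (hC : C ∈ irreducibleComponents ↥T) :
    ∃ ξ ∈ T, (∀ z ∈ T, z ⤳ ξ → z = ξ) ∧ IsGenericPoint ξ (Subtype.val '' C) := by
  haveI : QuasiSober T := hT.isClosedEmbedding_subtypeVal.quasiSober
  have hCc := isClosed_of_mem_irreducibleComponents C hC
  have hg := hC.1.isGenericPoint_genericPoint hCc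
  have hg' : IsGenericPoint (hC.1.genericPoint).1 (Subtype.val '' C) := by
    have := hg.image continuous_subtype_val
    rwa [(hT.isClosedEmbedding_subtypeVal.isClosedMap C hCc).closure_eq] at this
  refine ⟨(hC.1.genericPoint).1, (hC.1.genericPoint).2, fun z hz hzξ => ?_, hg'⟩
  have hz' : (⟨z, hz⟩ : T) ⤳ hC.1.genericPoint := (subtype_specializes_iff _ _).2 hzξ
  have hzC : (⟨z, hz⟩ : T) ∈ C := hC.2 isIrreducible_singleton.closure
    (fun a ha => specializes_iff_mem_closure.1 (hz'.trans (hg.specializes ha)))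
    (subset_closure rfl)
  exact congrArg Subtype.val (hz'.antisymm (hg.specializes hzC)).eq

theorem topologicalKrullDim_component [LocallyOfFiniteType qX] {T : Set X} {C : Set ↥T} {ξ : X}
    (h : IsGenericPoint ξ (Subtype.val '' C)) :
    topologicalKrullDim ↥C = (pdim qX ξ : WithBot ℕ∞) := by
  rw [← topologicalKrullDim_isGenericPoint qX h]
  exact IsHomeomorph.topologicalKrullDim_eq _
    (Topology.IsEmbedding.subtypeVal.homeomorphImage C).isHomeomorph

end Groth.Agent.Lib.VarDim.Fibre
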