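import Groth.Agent.Lib.VarDim.Fibre
import Groth.Agent.Lib.FibreDim.Semicont
import Mathlib.AlgebraicGeometry.IdealSheaf.Subscheme
import Mathlib.Topology.Constructible

/-!
# Fibre dimension along an irreducible closed subset
-/

set_option autoImplicit false
set_option linter.style.haveILetI false

universe u

namespace Groth.Agent.Lib.VarDim.Semicont

open AlgebraicGeometry CategoryTheory TopologicalSpace Topology Groth.Agent.Lib.Cyc
open Groth.Agent.Lib.VarDim.Basic Groth.Agent.Lib.VarDim.Fibre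

variable {K : Type u} [Field K] {X Y S : Scheme.{u}}

theorem tdAt_comp_of_surjective (ι : S ⟶ X) [IsPreimmersion ι] (f : X ⟶ Y) (s : S) :
    tdAt (ι ≫ f) s = tdAt f (ι s) := by
  rw [tdAt, tdAt, Residue.trdegAt_comp,
    FieldDim.trdegAt_eq_zero_of_surjective ι _ (FieldDim.residueFieldMap_surjective _ _), add_zero]

set_option backward.isDefEq.respectTransparency.types false in
/-- A generization in the fibre bounds the local fibre dimension from below. -/
theorem tdAt_le_fibreDimAt (f : X ⟶ Y) [LocallyOfFiniteType f] {w x : X} (hwx : w ⤳ x)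
    (he : f w = f x) : (tdAt f w : WithBot ℕ∞) ≤ FlatMor.fibreDimAt f x := by
  refine le_trans ?_ (FibreDim.Basic.fibreDimAt_mono f hwx he)
  haveI : LocallyOfFiniteType (X := f.fiber (f w)) (Y := Spec (CommRingCat.of (Y.residueField (f w))))
      (f.fiberToSpecResidueField (f w)) :=
    inferInstanceAs (LocallyOfFiniteType (Limits.pullback.snd f (Y.fromSpecResidueField (f w))))
  obtain ⟨U, hU, hUd⟩ := FibreDim.Basic.exists_open_krullDim_eq (f.asFiber w)
  have e : tdAt f w = pdim (K := Y.residueField (f w)) (f.fiberToSpecResidueField (f w))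
      (f.asFiber w) := by
    have := congrArg Cardinal.toNat (FieldDim.trdegAt_fiber f (f w) (f.asFiber w))
    rw [f.fiberι_asFiber] at this
    exact this.symm
  rw [e]
  refine le_trans ?_ hUd.le
  exact pdim_le_topologicalKrullDim (K := Y.residueField (f w)) (f.fiberToSpecResidueField (f w))
    U.2.isLocallyClosed hU

theorem exists_fibreDimAt_le_tdAt (f : X ⟶ Y) [LocallyOfFiniteType f] (x : X) :
    ∃ w : X, f w = f x ∧ FlatMor.fibreDimAt f x ≤ (tdAt f w : WithBot ℕ∞) := by
  obtain ⟨n, hn⟩ := FibreDim.Chart.exists_fibreDimAt_eq f x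
  have h : (n : WithBot ℕ∞) ≤ topologicalKrullDim ↥(f.base ⁻¹' {f x}) := by
    rw [← hn, ← FibreDim.Basic.topologicalKrullDim_fiber]
    exact FibreDim.Basic.fibreDimAt_le_topologicalKrullDim f rfl
  obtain ⟨w, hw, hle⟩ := exists_tdAt_ge f (f x) n h
  exact ⟨w, hw, hn.le.trans (by exact_mod_cast hle)⟩

variable (qX : X ⟶ Spec (CommRingCat.of K)) [LocallyOfFiniteType qX]
  (qY : Y ⟶ Spec (CommRingCat.of K)) (f : X ⟶ Y) [LocallyOfFiniteType f]

theorem tdAt_mono (hf : f ≫ qY = qX) {v w : X} (h : v ⤳ w) (he : f v = f w) :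
    tdAt f w ≤ tdAt f v := by
  have h1 := pdim_eq_add qX qY f hf v
  have h2 := pdim_eq_add qX qY f hf w
  have h3 := pdim_le qX h
  rw [he] at h1
  omega

include qX qY in
/-- Semicontinuity of the fibre dimension along the closure of a point. -/
theorem semicont (hf : f ≫ qY = qX) (z : X) :
    (∀ x, z ⤳ x → ∃ w, z ⤳ w ∧ f w = f x ∧ tdAt f z ≤ tdAt f w) ∧
    ∃ O : X.Opens, z ∈ O ∧ ∀ x ∈ O, z ⤳ x →
      ∀ w, z ⤳ w → w ⤳ x → f w = f x → tdAt f w ≤ tdAt f z := by
  let Zc : Closeds X := ⟨closure {z}, isClosed_closure⟩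
  let ι := (Scheme.IdealSheafData.vanishingIdeal Zc).subschemeι
  have hrange : Set.range ι = closure {z} := by
    simp [ι, Scheme.IdealSheafData.range_subschemeι, Scheme.IdealSheafData.coe_support_vanishingIdeal, Zc]
  have hmem : ∀ x, z ⤳ x → ∃ s, ι s = x := fun x hx => by
    show x ∈ Set.range ι
    rw [hrange]; exact specializes_iff_mem_closure.1 hx
  have hspec : ∀ s, z ⤳ ι s := fun s => by
    refine specializes_iff_mem_closure.2 ?_
    rw [← hrange]; exact ⟨s, rfl⟩
  obtain ⟨s₀, hs₀⟩ := hmem z specializes_rfl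
  have htd : ∀ s, tdAt (ι ≫ f) s = tdAt f (ι s) := tdAt_comp_of_surjective ι f
  have hlow : (tdAt f z : WithBot ℕ∞) ≤ FlatMor.fibreDimAt (ι ≫ f) s₀ := by
    rw [← hs₀, ← htd]
    exact tdAt_le_fibreDimAt (ι ≫ f) specializes_rfl rfl
  have hhigh : FlatMor.fibreDimAt (ι ≫ f) s₀ ≤ (tdAt f z : WithBot ℕ∞) := by
    obtain ⟨w, hw, hle⟩ := exists_fibreDimAt_le_tdAt (ι ≫ f) s₀
    refine hle.trans ?_
    rw [htd]
    have he : f z = f (ι w) := by
      rw [← hs₀]; exact hw.symm
    exact_mod_cast tdAt_mono qX qY f hf (hspec w) he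
  refine ⟨fun x hx => ?_, ?_⟩
  · obtain ⟨s, rfl⟩ := hmem x hx
    obtain ⟨O, hsO, hO⟩ := FibreDim.Semicont.exists_open_forall_fibreDimAt_le (ι ≫ f) s
    have hs0O : s₀ ∈ O := by
      refine Specializes.mem_open ?_ O.2 hsO
      rw [← ι.isEmbedding.isInducing.specializes_iff, hs₀]
      exact hspec s
    obtain ⟨w, hw, hle⟩ := exists_fibreDimAt_le_tdAt (ι ≫ f) s
    refine ⟨ι w, hspec w, hw, ?_⟩
    rw [← htd w]
    exact_mod_cast (hlow.trans (hO s₀ hs0O)).trans hle
  · obtain ⟨O, hs0O, hO⟩ := FibreDim.Semicont.exists_open_forall_fibreDimAt_le (ι ≫ f) s₀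
    obtain ⟨V, hV, hVO⟩ := isOpen_induced_iff.1 (ι.isEmbedding.isInducing.isOpen_iff.1 O.2)
    refine ⟨⟨V, hV⟩, ?_, fun x hxV hx w hw hwx he => ?_⟩
    · have : s₀ ∈ ι ⁻¹' V := (Set.ext_iff.1 hVO s₀).2 hs0O
      exact hs₀ ▸ this
    · obtain ⟨s, rfl⟩ := hmem x hx
      obtain ⟨v, rfl⟩ := hmem w hw
      have hsO : s ∈ O := (Set.ext_iff.1 hVO s).1 hxV
      have h1 := tdAt_le_fibreDimAt (ι ≫ f) ((ι.isEmbedding.isInducing.specializes_iff).1 hwx) he
      rw [htd] at h1
      exact_mod_cast (h1.trans (hO s hsO)).trans hhigh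

theorem mem_nhds_of_isConstructible {α : Type*} [TopologicalSpace α] {η : α}
    (hη : ∀ a : α, η ⤳ a) {s : Set α} (hs : IsConstructible s) :
    (η ∈ s → s ∈ nhds η) ∧ (η ∉ s → sᶜ ∈ nhds η) := by
  induction hs using IsConstructible.empty_union_induction with
  | open_retrocompact U hU _ =>
    refine ⟨hU.mem_nhds, fun h => ?_⟩
    have : U = ∅ := Set.eq_empty_of_forall_notMem fun a ha => h ((hη a).mem_open hU ha)
    simp [this]
  | union s _ t _ hs ht =>
    refine ⟨?_, fun h => ?_⟩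
    · rintro (h | h)
      · exact Filter.mem_of_superset (hs.1 h) Set.subset_union_left
      · exact Filter.mem_of_superset (ht.1 h) Set.subset_union_right
    · rw [Set.compl_union]
      exact Filter.inter_mem (hs.2 fun a => h (Or.inl a)) (ht.2 fun a => h (Or.inr a))
  | compl s _ hs =>
    refine ⟨hs.2, fun h => ?_⟩
    rw [compl_compl]
    exact hs.1 (not_not.1 h)

/-- A point maximal among all points has a neighbourhood inside its closure. -/
theorem exists_open_subset_closure [NoetherianSpace X] {z : X} (hz : ∀ w, w ⤳ z → w = z) :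
    ∃ U : Set X, IsOpen U ∧ z ∈ U ∧ ∀ x ∈ U, z ⤳ x := by
  let R := {C ∈ irreducibleComponents ↥X | z ∉ C}
  have hfin : R.Finite := NoetherianSpace.finite_irreducibleComponents.subset fun C hC => hC.1
  have hR : IsClosed (⋃₀ R) := by
    rw [Set.sUnion_eq_biUnion]
    exact hfin.isClosed_biUnion fun C hC => isClosed_of_mem_irreducibleComponents C hC.1
  refine ⟨(⋃₀ R)ᶜ, hR.isOpen_compl, fun ⟨C, hC, h⟩ => hC.2 h, fun x hx => ?_⟩
  have hCm := irreducibleComponent_mem_irreducibleComponents x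
  have hzC : z ∈ irreducibleComponent x := by
    by_contra h
    exact hx ⟨_, ⟨hCm, h⟩, mem_irreducibleComponent⟩
  have hg := hCm.1.isGenericPoint_genericPoint (isClosed_of_mem_irreducibleComponents _ hCm)
  have := hz _ (hg.specializes hzC)
  rw [← this]
  exact hg.specializes mem_irreducibleComponent

end Groth.Agent.Lib.VarDim.Semicont
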