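import Groth.Agent.Lib.Cyc.FieldDim
import Groth.Agent.Lib.GrpSch.DenseDim
import Mathlib.Topology.Sober

/-!
# Dimension of schemes locally of finite type over a field, computed on points

`pdim f x` is the transcendence degree of `κ(x)` over the base field and `tdAt φ x` the
transcendence degree of `κ(x)` over `κ(φ x)`.
-/

set_option autoImplicit false
set_option linter.style.haveILetI false

universe u

namespace Groth.Agent.Lib.VarDim.Basic

open AlgebraicGeometry CategoryTheory TopologicalSpace Groth.Agent.Lib.Cyc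

variable {X Y : Scheme.{u}}

/-- `trdeg_{κ(φ x)} κ(x)`, as a natural number. -/
noncomputable def tdAt (φ : X ⟶ Y) (x : X) : ℕ := (Residue.trdegAt φ x).toNat

variable {K : Type u} [Field K] (f : X ⟶ Spec (CommRingCat.of K))

/-- `trdeg_K κ(x)` as a natural number. -/
noncomputable def pdim (x : X) : ℕ := tdAt f x

theorem fdelta_eq (x : X) : FieldDim.fdelta f x = (pdim f x : ℤ) := rfl

variable [LocallyOfFiniteType f]

theorem trdegAt_eq_pdim (x : X) : Residue.trdegAt f x = (pdim f x : Cardinal) := by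
  rw [FieldDim.trdegAt_eq_fdelta f x, fdelta_eq, Int.toNat_natCast]

theorem pdim_lt {x y : X} (h : x ⤳ y) (hne : x ≠ y) : pdim f y < pdim f x := by
  have := DimFun.lt_of_specializes (FieldDim.isDimFun_fdelta f) h hne
  simpa [fdelta_eq] using this

theorem pdim_le {x y : X} (h : x ⤳ y) : pdim f y ≤ pdim f x := by
  rcases eq_or_ne x y with rfl | hne
  · exact le_rfl
  · exact (pdim_lt f h hne).le

theorem eq_of_pdim_le {x y : X} (h : x ⤳ y) (hle : pdim f x ≤ pdim f y) : x = y := by
  by_contra hne
  exact absurd (pdim_lt f h hne) (not_lt.2 hle)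

theorem exists_step_below {x y : X} (h : x ⤳ y) (hne : x ≠ y) :
    ∃ z, x ⤳ z ∧ z ⤳ y ∧ pdim f x = pdim f z + 1 := by
  obtain ⟨z, h1, h2, h3⟩ := DimFun.exists_step_below (FieldDim.isDimFun_fdelta f) h hne
  rw [fdelta_eq, fdelta_eq] at h3
  exact ⟨z, h1, h2, by exact_mod_cast h3⟩

theorem pdim_eq_zero_iff (x : X) : pdim f x = 0 ↔ IsClosed ({x} : Set X) := by
  constructor
  · intro h
    refine closure_eq_iff_isClosed.1 (Set.Subset.antisymm (fun y hy => ?_) subset_closure)
    by_contra hne
    have := pdim_lt f (specializes_iff_mem_closure.2 hy) (fun e => hne e.symm)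
    omega
  · intro h
    have := FieldDim.fdelta_of_isClosed f x h
    simpa [fdelta_eq] using this

theorem quasiSober_of_isLocallyClosed {α : Type*} [TopologicalSpace α] [QuasiSober α]
    {T : Set α} (hT : IsLocallyClosed T) : QuasiSober T := by
  obtain ⟨U, Z, hU, hZ, rfl⟩ := hT
  refine ⟨fun {C} hC hCc => ?_⟩
  obtain ⟨ξ, hξ⟩ := QuasiSober.sober (S := closure (Subtype.val '' C))
    (hC.image _ continuous_subtype_val.continuousOn).closure isClosed_closure
  have hmemZ : ξ ∈ Z := closure_minimal (by rintro _ ⟨a, -, rfl⟩; exact a.2.2) hZ hξ.mem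
  obtain ⟨c, hc⟩ := hC.nonempty
  have hmemU : ξ ∈ U :=
    (hξ.specializes (subset_closure ⟨c, hc, rfl⟩)).mem_open hU c.2.1
  refine ⟨⟨ξ, hmemU, hmemZ⟩, isGenericPoint_iff_specializes.2 fun a => ?_⟩
  rw [subtype_specializes_iff, hξ.specializes_iff_mem]
  have := (Topology.IsInducing.subtypeVal (t := U ∩ Z)).closure_eq_preimage_closure_image C
  rw [hCc.closure_eq] at this
  exact (Set.ext_iff.1 this a).symm

/-- A chain in a locally closed set going down from `x` to a closed point. -/
theorem exists_series {T : Set X} (hT : IsLocallyClosed T) :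
    ∀ (n : ℕ) (x : {y : X // y ∈ T}), pdim f x.1 = n →
      ∃ l : LTSeries {y : X // y ∈ T}, l.length = n ∧ l.last = x := by
  intro n
  induction n with
  | zero => exact fun x _ => ⟨RelSeries.singleton _ x, rfl, RelSeries.last_singleton _⟩
  | succ n ih =>
    intro x hx
    haveI : JacobsonSpace X := LocallyOfFiniteType.jacobsonSpace f
    obtain ⟨U, Z, hU, hZ, rfl⟩ := hT
    obtain ⟨y, ⟨⟨hyx, hyU⟩, hyc⟩⟩ := nonempty_inter_closedPoints
      (Z := closure ({x.1} : Set X) ∩ U) ⟨x.1, subset_closure rfl, x.2.1⟩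
      (isClosed_closure.isLocallyClosed.inter hU.isLocallyClosed)
    have hxy : x.1 ⤳ y := specializes_iff_mem_closure.2 hyx
    have hne : x.1 ≠ y := fun e => by
      have := (pdim_eq_zero_iff f y).2 hyc
      rw [← e, hx] at this
      omega
    obtain ⟨z, hxz, hzy, hz⟩ := exists_step_below f hxy hne
    have hzT : z ∈ U ∩ Z :=
      ⟨hzy.mem_open hU hyU, hxz.mem_closed hZ x.2.2⟩
    obtain ⟨l, hl, hlast⟩ := ih ⟨z, hzT⟩ (show pdim f z = n by omega)
    refine ⟨l.snoc x ?_, congrArg (· + 1) hl, RelSeries.last_snoc ..⟩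
    rw [hlast]
    refine lt_of_le_not_ge (show x.1 ⤳ z from hxz) fun hle => ?_
    have := pdim_le f (show z ⤳ x.1 from hle)
    omega

theorem length_le_pdim {T : Set X} (l : LTSeries {y : X // y ∈ T}) :
    l.length ≤ pdim f l.last.1 := by
  have key : ∀ i : Fin (l.length + 1), (i : ℕ) ≤ pdim f (l i).1 := by
    intro i
    induction i using Fin.induction with
    | zero => simp
    | succ i ih =>
      have hlt : (l i.castSucc).1 < (l i.succ).1 := l.step i
      have := pdim_lt f (show (l i.succ).1 ⤳ (l i.castSucc).1 from hlt.le) (fun e => hlt.ne e.symm)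
      simp only [Fin.val_succ, Fin.val_castSucc] at *
      omega
  exact key (Fin.last _)

theorem topologicalKrullDim_le_iff {T : Set X} (hT : IsLocallyClosed T) (d : WithBot ℕ∞) :
    topologicalKrullDim ↥T ≤ d ↔ ∀ x ∈ T, (pdim f x : WithBot ℕ∞) ≤ d := by
  haveI := quasiSober_of_isLocallyClosed hT
  rw [Groth.Agent.Lib.GrpSch.topologicalKrullDim_eq_krullDim_subset]
  constructor
  · intro h x hx
    obtain ⟨l, hl, -⟩ := exists_series f hT _ ⟨x, hx⟩ rfl
    rw [← hl]
    exact (Order.LTSeries.length_le_krullDim l).trans h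
  · intro h
    exact iSup_le fun l => le_trans (by exact_mod_cast length_le_pdim f l) (h _ l.last.2)

theorem pdim_le_topologicalKrullDim {T : Set X} (hT : IsLocallyClosed T) {x : X} (hx : x ∈ T) :
    (pdim f x : WithBot ℕ∞) ≤ topologicalKrullDim ↥T :=
  (topologicalKrullDim_le_iff f hT _).1 le_rfl x hx

theorem topologicalKrullDim_eq {T : Set X} (hT : IsLocallyClosed T) {x : X} (hx : x ∈ T)
    (h : ∀ y ∈ T, pdim f y ≤ pdim f x) : topologicalKrullDim ↥T = (pdim f x : WithBot ℕ∞) :=
  le_antisymm ((topologicalKrullDim_le_iff f hT _).2 fun y hy => by exact_mod_cast h y hy)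
    (pdim_le_topologicalKrullDim f hT hx)

theorem topologicalKrullDim_isGenericPoint {T : Set X} {ξ : X} (h : IsGenericPoint ξ T) :
    topologicalKrullDim ↥T = (pdim f ξ : WithBot ℕ∞) :=
  topologicalKrullDim_eq f h.isClosed.isLocallyClosed h.mem fun _ hy => pdim_le f (h.specializes hy)

omit [LocallyOfFiniteType f] in
theorem topologicalKrullDim_scheme_eq : topologicalKrullDim ↥X = topologicalKrullDim ↥(Set.univ : Set X) :=
  ((Homeomorph.Set.univ X).isHomeomorph.topologicalKrullDim_eq _).symm

theorem topologicalKrullDim_scheme_le_iff (d : WithBot ℕ∞) :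
    topologicalKrullDim ↥X ≤ d ↔ ∀ x : X, (pdim f x : WithBot ℕ∞) ≤ d := by
  rw [topologicalKrullDim_scheme_eq, topologicalKrullDim_le_iff f isClosed_univ.isLocallyClosed]
  simp

theorem pdim_le_topologicalKrullDim_scheme (x : X) :
    (pdim f x : WithBot ℕ∞) ≤ topologicalKrullDim ↥X :=
  (topologicalKrullDim_scheme_le_iff f _).1 le_rfl x

theorem topologicalKrullDim_irreducibleSpace [IrreducibleSpace X] :
    topologicalKrullDim ↥X = (pdim f (genericPoint X) : WithBot ℕ∞) := by
  rw [topologicalKrullDim_scheme_eq]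
  exact topologicalKrullDim_isGenericPoint f (genericPoint_spec X)

end Groth.Agent.Lib.VarDim.Basic
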