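import Groth.Agent.Lib.VarDim.Semicont
import Mathlib.AlgebraicGeometry.Morphisms.FinitePresentation

/-!
# Morphisms whose fibres over closed points are irreducible of constant dimension
-/

set_option autoImplicit false
set_option linter.style.haveILetI false

universe u

namespace Groth.Agent.Lib.VarDim.Irreducible

open AlgebraicGeometry CategoryTheory TopologicalSpace Topology
open Groth.Agent.Lib.VarDim.Basic Groth.Agent.Lib.VarDim.Fibre Groth.Agent.Lib.VarDim.Semicont

variable {K : Type u} [Field K] {X Y : Scheme.{u}} (qX : X ⟶ Spec (CommRingCat.of K))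
  [LocallyOfFiniteType qX] (qY : Y ⟶ Spec (CommRingCat.of K)) [LocallyOfFiniteType qY] (f : X ⟶ Y)

/-- Every closed point has a fibre with a generic point of dimension `d`. -/
def FibresIrred (d : ℕ) : Prop :=
  ∀ y : Y, IsClosed ({y} : Set Y) → ∃ ξ, f ξ = y ∧ pdim qX ξ = d ∧ ∀ x, f x = y → ξ ⤳ x

theorem fibresIrred_of (d : ℕ) (hirr : ∀ y : Y, IsClosed ({y} : Set Y) → IsIrreducible (f.base ⁻¹' {y}))
    (hdim : ∀ y : Y, IsClosed ({y} : Set Y) → topologicalKrullDim ↥(f.base ⁻¹' {y}) = d) :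
    FibresIrred qX f d := by
  intro y hy
  obtain ⟨ξ, hξ⟩ := QuasiSober.sober (hirr y hy) (hy.preimage f.continuous)
  refine ⟨ξ, hξ.mem, ?_, fun x hx => hξ.specializes hx⟩
  have h1 := topologicalKrullDim_isGenericPoint qX hξ
  rw [hdim y hy] at h1
  exact_mod_cast h1.symm

theorem isClosed_apply (hf : f ≫ qY = qX) {x : X} (hx : IsClosed ({x} : Set X)) :
    IsClosed ({f x} : Set Y) := by
  rw [← pdim_eq_zero_iff qY]
  have := pdim_apply_le qX qY f hf x
  rw [(pdim_eq_zero_iff qX x).2 hx] at this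
  omega

variable {d : ℕ}

include qX qY in
theorem locallyOfFiniteType (hf : f ≫ qY = qX) : LocallyOfFiniteType f := by
  haveI : LocallyOfFiniteType (f ≫ qY) := by rw [hf]; infer_instance
  exact locallyOfFiniteType_of_comp f qY

/-- A component consists of whole fibres and has relative dimension `d`. -/
theorem component (hf : f ≫ qY = qX) (H : FibresIrred qX f d) {z : X} {U : Set X} (hU : IsOpen U)
    (hzU : z ∈ U) (hUz : ∀ x ∈ U, z ⤳ x) :
    pdim qX z = pdim qY (f z) + d ∧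
      ∀ y : Y, IsClosed ({y} : Set Y) → ∀ x, z ⤳ x → f x = y → ∀ x', f x' = y → z ⤳ x' := by
  haveI := locallyOfFiniteType qX qY f hf
  haveI : JacobsonSpace X := LocallyOfFiniteType.jacobsonSpace qX
  obtain ⟨hlow, O, hzO, hO⟩ := semicont qX qY f hf z
  have htd : ∀ v : X, IsClosed ({f v} : Set Y) → tdAt f v = pdim qX v :=
    fun v hv => tdAt_of_isClosed qX qY f hf v hv
  obtain ⟨x, ⟨hxU, hxO⟩, hxc⟩ := nonempty_inter_closedPoints (Z := U ∩ (O : Set X))
    ⟨z, hzU, hzO⟩ (hU.inter O.2).isLocallyClosed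
  have hy := isClosed_apply qX qY f hf hxc
  obtain ⟨ξ, hξy, hξd, hξ⟩ := H (f x) hy
  have hξx : ξ ⤳ x := hξ x rfl
  have hzξ : z ⤳ ξ := hUz ξ (hξx.mem_open hU hxU)
  have h1 : tdAt f ξ ≤ tdAt f z := hO x hxO (hUz x hxU) ξ hzξ hξx hξy
  rw [htd ξ (by rw [hξy]; exact hy), hξd] at h1
  obtain ⟨w, -, hwy, hwle⟩ := hlow x (hUz x hxU)
  rw [htd w (by rw [hwy]; exact hy)] at hwle
  have h2 := pdim_le qX (hξ w hwy)
  rw [hξd] at h2
  have he : tdAt f z = d := by omega
  refine ⟨by rw [pdim_eq_add qX qY f hf z, he], fun y hyc x₁ hzx₁ hx₁ x' hx' => ?_⟩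
  subst hx₁
  obtain ⟨ξ₁, -, hξ₁d, hξ₁⟩ := H (f x₁) hyc
  obtain ⟨w₁, hzw₁, hw₁y, hw₁le⟩ := hlow x₁ hzx₁
  rw [htd w₁ (by rw [hw₁y]; exact hyc), he] at hw₁le
  have : ξ₁ = w₁ := eq_of_pdim_le qX (hξ₁ w₁ hw₁y) (by omega)
  exact hzw₁.trans (this ▸ hξ₁ x' hx')

include qY in
theorem exists_dominant [NoetherianSpace X] [IrreducibleSpace Y] (H : FibresIrred qX f d) :
    ∃ z : X, (∀ w, w ⤳ z → w = z) ∧ f z = genericPoint Y := by
  haveI : JacobsonSpace Y := LocallyOfFiniteType.jacobsonSpace qY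
  by_contra! hne
  let S : Set Y := ⋃ C ∈ irreducibleComponents ↥X, closure (f '' C)
  have hS : IsClosed S :=
    NoetherianSpace.finite_irreducibleComponents.isClosed_biUnion fun _ _ => isClosed_closure
  have hsub : closedPoints ↥Y ⊆ S := fun y hy => by
    obtain ⟨ξ, hξ, -, -⟩ := H y hy
    exact Set.mem_biUnion (irreducibleComponent_mem_irreducibleComponents ξ)
      (subset_closure ⟨ξ, mem_irreducibleComponent, hξ⟩)
  have hη : genericPoint Y ∈ S :=
    closure_minimal hsub hS ((closure_closedPoints (X := ↥Y)).symm ▸ Set.mem_univ _)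
  obtain ⟨C, hC, hηC⟩ := Set.mem_iUnion₂.1 hη
  have hCc := isClosed_of_mem_irreducibleComponents C hC
  have hg := hC.1.isGenericPoint_genericPoint hCc
  refine hne hC.1.genericPoint (fun w hw => ?_) ?_
  · have hwC : w ∈ C := hC.2 isIrreducible_singleton.closure
      (fun a ha => specializes_iff_mem_closure.1 (hw.trans (hg.specializes ha)))
      (subset_closure rfl)
    exact (hw.antisymm (hg.specializes hwC)).eq
  · have : genericPoint Y ∈ closure {f hC.1.genericPoint} := by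
      refine closure_minimal ?_ isClosed_closure hηC
      rintro _ ⟨c, hc, rfl⟩
      exact specializes_iff_mem_closure.1 ((hg.specializes hc).map f.continuous)
    exact ((specializes_iff_mem_closure.2 this).antisymm (genericPoint_specializes _)).eq

theorem dominant_unique [NoetherianSpace X] [IrreducibleSpace Y] [QuasiCompact qX] [QuasiCompact qY]
    (hf : f ≫ qY = qX) (H : FibresIrred qX f d) {z₁ z₂ : X} (h₁ : ∀ w, w ⤳ z₁ → w = z₁)
    (h₂ : ∀ w, w ⤳ z₂ → w = z₂) (e₁ : f z₁ = genericPoint Y) (e₂ : f z₂ = genericPoint Y) :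
    z₁ = z₂ := by
  haveI := locallyOfFiniteType qX qY f hf
  haveI : IsLocallyNoetherian Y := LocallyOfFiniteType.isLocallyNoetherian qY
  haveI : CompactSpace ↥Y := QuasiCompact.compactSpace_of_compactSpace qY
  haveI : CompactSpace ↥X := QuasiCompact.compactSpace_of_compactSpace qX
  haveI : QuasiCompact f := quasiCompact_of_compactSpace f
  haveI : LocallyOfFinitePresentation f := inferInstance
  haveI : JacobsonSpace Y := LocallyOfFiniteType.jacobsonSpace qY
  obtain ⟨U₁, hU₁, hz₁, hU₁s⟩ := exists_open_subset_closure h₁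
  obtain ⟨U₂, hU₂, hz₂, hU₂s⟩ := exists_open_subset_closure h₂
  have hcon : ∀ U : Set X, IsOpen U → IsConstructible (f '' U) := fun U hU =>
    f.isConstructible_image ((NoetherianSpace.isCompact U).isConstructible hU)
  have hη : ∀ a : Y, genericPoint Y ⤳ a := genericPoint_specializes
  have hA := (mem_nhds_of_isConstructible hη (hcon U₁ hU₁)).1 ⟨z₁, hz₁, e₁⟩
  have hB := (mem_nhds_of_isConstructible hη (hcon U₂ hU₂)).1 ⟨z₂, hz₂, e₂⟩
  obtain ⟨O, hOs, hO, hηO⟩ := mem_nhds_iff.1 (Filter.inter_mem hA hB)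
  obtain ⟨y, hyO, hyc⟩ := nonempty_inter_closedPoints (Z := O) ⟨_, hηO⟩ hO.isLocallyClosed
  obtain ⟨⟨x₁, hx₁U, hx₁⟩, x₂, hx₂U, hx₂⟩ := hOs hyO
  have hzx := (component qX qY f hf H hU₂ hz₂ hU₂s).2 y hyc x₂ (hU₂s x₂ hx₂U) hx₂ x₁ hx₁
  -- `x₁` lies only on the component of `z₁`
  have h3 : z₂ ∈ U₁ := hzx.mem_open hU₁ hx₁U
  exact (h₂ z₁ (hU₁s z₂ h3))

theorem component_facts [NoetherianSpace X] (hf : f ≫ qY = qX) (H : FibresIrred qX f d)
    {Z : Set X} (hZ : Z ∈ irreducibleComponents ↥X) :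
    ∃ z, IsGenericPoint z Z ∧ (∀ w, w ⤳ z → w = z) ∧
      topologicalKrullDim ↥Z = ((pdim qY (f z) + d : ℕ) : WithBot ℕ∞) ∧
      topologicalKrullDim ↥(closure (f.base '' Z)) = (pdim qY (f z) : WithBot ℕ∞) ∧
      ∀ y : Y, IsClosed ({y} : Set Y) → (f.base ⁻¹' {y} ∩ Z).Nonempty → f.base ⁻¹' {y} ⊆ Z := by
  have hZc := isClosed_of_mem_irreducibleComponents Z hZ
  have hg := hZ.1.isGenericPoint_genericPoint hZc
  set z := hZ.1.genericPoint
  have hmax : ∀ w, w ⤳ z → w = z := fun w hw => by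
    have hwC : w ∈ Z := hZ.2 isIrreducible_singleton.closure
      (fun a ha => specializes_iff_mem_closure.1 (hw.trans (hg.specializes ha)))
      (subset_closure rfl)
    exact (hw.antisymm (hg.specializes hwC)).eq
  obtain ⟨U, hU, hzU, hUs⟩ := exists_open_subset_closure hmax
  obtain ⟨hd, hfull⟩ := component qX qY f hf H hU hzU hUs
  refine ⟨z, hg, hmax, ?_, ?_, fun y hy ⟨x, hx, hxZ⟩ x' hx' =>
    hg.specializes_iff_mem.1 ?_⟩
  · rw [topologicalKrullDim_isGenericPoint qX hg, hd]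
  · exact topologicalKrullDim_isGenericPoint qY (hg.image f.continuous)
  · exact hfull y hy x (hg.specializes hxZ) hx x' hx'

end Groth.Agent.Lib.VarDim.Irreducible
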